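import Cfsg.Agent.H159.RIM.Push
import Cfsg.Agent.H600.RIM.ExcDefs

/-!
# S4816, box EXC: the triple step `PartT` (helper159)
-/

set_option autoImplicit false
set_option linter.unusedSectionVars false
set_option linter.style.haveILetI false

open Cfsg

namespace Cfsg.Agent.H159.RIM

open Cfsg.Agent.Characters.Core Cfsg.Agent.Characters.Clifford Cfsg.Agent.H672
open Cfsg.Agent.H672.RM (over_lin_iff)
open Cfsg.Agent.H229.RIM Cfsg.Agent.H665.RIM
open Cfsg.Agent.H586.GW
open Cfsg.Agent.H37.NW (exists_triple')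
open Cfsg.Agent.H37.NX (IM comm_central)
open Cfsg.Agent.H696.RIM (exists_ext_cen resL resL_apply bad_resL)
open scoped commutatorElement

universe u

/-- in a perfect group a central element of order `p` outside the kernel of `θ` gives `p ∣ θ(1)` -/
theorem dvd_of_perfect {L : Type*} [Group L] (hL : commutator L = ⊤) {c : L} (hc : ∀ x : L, c * x = x * c)
    {p : ℕ} (hp : p.Prime) (hcp : c ^ p = 1) {θ : L → ℂ} (hθ : IsIrrCharacter L θ) (h : θ c ≠ θ 1) :
    p ∣ charDegree θ := by
  have hdeg := Cfsg.Agent.Blocks.Basic.irr_one_eq_charDegree hθ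
  obtain ⟨n, ρ, hρ, rfl⟩ := hθ
  obtain ⟨ω, hω⟩ := Cfsg.Agent.Blocks.ClassScalar.exists_smul_of_commute ρ hρ (ρ c) (fun g => by
    rw [← map_mul, ← map_mul, hc])
  have h1 : ρ.character 1 = n := by
    rw [Representation.char_one, Module.finrank_fin_fun]
  have h2 : ρ.character c = ω * n := by
    show LinearMap.trace ℂ _ (ρ c) = _
    rw [hω, map_smul, LinearMap.trace_one, Module.finrank_fin_fun, smul_eq_mul]
  have hn : charDegree ρ.character = n := by
    rw [h1] at hdeg
    exact_mod_cast hdeg.symm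
  have hω1 : ω ≠ 1 := by
    rintro rfl
    apply h
    rw [h1, h2, one_mul]
  have hnpos : n ≠ 0 := by
    rintro rfl
    apply h
    rw [h1, h2]; simp
  have hωp : ω ^ p = 1 := by
    have h3 : (ρ c) ^ p = 1 := by rw [← map_pow, hcp, map_one]
    rw [hω, smul_pow, one_pow] at h3
    have h4 := congrArg (LinearMap.trace ℂ (Fin n → ℂ)) h3
    rw [map_smul, LinearMap.trace_one, Module.finrank_fin_fun, smul_eq_mul] at h4
    have h5 : (n : ℂ) ≠ 0 := Nat.cast_ne_zero.2 hnpos
    exact mul_right_cancel₀ h5 (by rw [h4, one_mul])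
  have hdet : ω ^ n = 1 := by
    let δ : L →* ℂˣ := ((LinearMap.det : Module.End ℂ (Fin n → ℂ) →* ℂ).comp ρ).toHomUnits
    have h3 : δ c = 1 := by
      have h4 : commutator L ≤ δ.ker := Abelianization.commutator_subset_ker δ
      have h5 : c ∈ commutator L := by rw [hL]; trivial
      exact h4 h5
    have h4 : (δ c : ℂ) = LinearMap.det (ρ c) := rfl
    rw [h3, hω, LinearMap.det_smul, Module.finrank_fin_fun, map_one, mul_one, Units.val_one] at h4
    exact h4.symm
  have hord : orderOf ω = p := by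
    have := Fact.mk hp
    exact orderOf_eq_prime hωp hω1
  rw [hn, ← hord]
  exact orderOf_dvd_of_pow_eq_one hdet

/-- a perfect central extension of `S` is not bad over any linear character of the kernel -/
theorem not_bad_gen {p : ℕ} [hp : Fact p.Prime] {E S : Type u} [Group E] [Finite E] [Group S] [Finite S]
    (hS : ∃ θ : S → ℂ, IsIrrCharacter S θ ∧ p ∣ charDegree θ) (hNB : NBall.{u} p S)
    (perf : commutator E = ⊤) (π0 : E →* S) (hπ0 : Function.Surjective π0) {C : Subgroup E}
    (hCk : C = π0.ker) (hC : C ≤ Subgroup.center E) {l : C →* ℂˣ} (bad : Bad p C l) : False := by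
  classical
  let K : Subgroup E := l.ker.map C.subtype
  have hKC : K ≤ C := Subgroup.map_subtype_le _
  haveI hK : K.Normal := center_normal K (hKC.trans hC)
  let q : E →* E ⧸ K := QuotientGroup.mk' K
  have hq : Function.Surjective q := QuotientGroup.mk'_surjective K
  have hq1 : ∀ x, q x = 1 ↔ x ∈ K := fun x => QuotientGroup.eq_one_iff x
  let π : E ⧸ K →* S := QuotientGroup.lift K π0 (hKC.trans hCk.le)
  have hπq : ∀ x, π (q x) = π0 x := fun _ => rfl
  have hπ : Function.Surjective π := by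
    intro y
    obtain ⟨x, rfl⟩ := hπ0 y
    exact ⟨q x, rfl⟩
  have hker : ∀ x, q x ∈ π.ker ↔ x ∈ C := by
    intro x
    rw [MonoidHom.mem_ker, hπq, hCk]
    exact Iff.rfl
  have hcen : π.ker ≤ Subgroup.center (E ⧸ K) := by
    intro y hy
    obtain ⟨x, rfl⟩ := hq y
    rw [hker] at hy
    rw [Subgroup.mem_center_iff]
    intro z
    obtain ⟨z, rfl⟩ := hq z
    rw [← map_mul, ← map_mul, Subgroup.mem_center_iff.1 (hC hy) z]
  have hperf : commutator (E ⧸ K) = ⊤ := by
    have h1 : (commutator E).map q = commutator (E ⧸ K) := by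
      rw [commutator_def, Subgroup.map_commutator, commutator_def]
      congr 1 <;> exact Subgroup.map_top_of_surjective _ hq
    rw [← h1, perf]
    exact Subgroup.map_top_of_surjective _ hq
  let f : C →* π.ker := (q.comp C.subtype).codRestrict π.ker (fun z => (hker z).2 z.2)
  have hf : Function.Surjective f := by
    rintro ⟨y, hy⟩
    obtain ⟨x, rfl⟩ := hq y
    exact ⟨⟨x, (hker x).1 hy⟩, rfl⟩
  have hkf : f.ker ≤ l.ker := by
    intro z hz
    have h1 : q (z : E) = 1 := congrArg Subtype.val (MonoidHom.mem_ker.1 hz)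
    obtain ⟨w, hw, hwz⟩ := (hq1 _).1 h1
    have : w = z := Subtype.ext hwz
    rwa [← this]
  let l' : π.ker →* ℂˣ := f.liftOfSurjective hf ⟨l, hkf⟩
  have hl' : ∀ z, l' (f z) = l z := fun z => MonoidHom.liftOfRightInverse_comp_apply _ _ _ _ _
  have hinj : Function.Injective l' := by
    rw [injective_iff_map_eq_one]
    intro z hz
    obtain ⟨z, rfl⟩ := hf z
    rw [hl'] at hz
    apply Subtype.ext
    exact (hq1 _).2 ⟨z, hz, rfl⟩
  -- a character of degree divisible by `p`
  have key : ∃ χ : E ⧸ K → ℂ, IsIrrCharacter (E ⧸ K) χ ∧ (∀ z : π.ker, χ z = χ 1 * l' z) ∧ p ∣ charDegree χ := by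
    by_cases hpk : p ∣ Nat.card π.ker
    · obtain ⟨z, hz⟩ := exists_prime_orderOf_dvd_card' p hpk
      obtain ⟨χ, hχ, hov⟩ := exists_over_subtype π.ker (isIrr_lf l')
      have hov' := (over_lin_iff π.ker.subtype (fun w => hcen w.2) hχ l').1 hov
      refine ⟨χ, hχ, hov', dvd_of_perfect hperf (c := (z : E ⧸ K)) (fun x => ?_) hp.out ?_ hχ ?_⟩
      · exact (Subgroup.mem_center_iff.1 (hcen z.2) x).symm
      · have h1 : z ^ p = 1 := by rw [← hz]; exact pow_orderOf_eq_one z
        have h2 := congrArg Subtype.val h1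
        exact h2
      · intro h1
        have h2 : χ z = χ 1 * l' z := hov' z
        rw [h1] at h2
        have h3 : χ 1 ≠ 0 := isIrr_apply_one_ne_zero hχ
        have h4 : ((l' z : ℂˣ) : ℂ) = 1 := by
          have h5 : χ 1 * ((l' z : ℂˣ) : ℂ) = χ 1 * 1 := by rw [← h2, mul_one]
          exact mul_left_cancel₀ h3 h5
        have h5 : l' z = 1 := Units.ext h4
        have h6 : z = 1 := hinj (by rw [h5, map_one])
        rw [h6, orderOf_one] at hz
        exact hp.out.one_lt.ne hz
    · by_cases htwo : 2 ≤ Nat.card π.ker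
      · exact hNB (Nat.card π.ker) htwo hpk (E ⧸ K) π hπ hcen hperf rfl l' hinj
      · have h1 : Nat.card π.ker = 1 := by
          have : 0 < Nat.card π.ker := Nat.card_pos
          omega
        have h2 : π.ker = ⊥ := Subgroup.eq_bot_of_card_eq _ h1
        obtain ⟨θ, hθ, hd⟩ := hS
        refine ⟨θ ∘ π, isIrr_comp π hπ hθ, fun z => ?_, ?_⟩
        · have h3 : z = 1 := by
            apply Subtype.ext
            have h4 : (z : E ⧸ K) ∈ (⊥ : Subgroup (E ⧸ K)) := by rw [← h2]; exact z.2
            exact Subgroup.mem_bot.1 h4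
          rw [h3, map_one, Units.val_one, mul_one]
          rfl
        · rw [charDegree_comp_one]
          exact hd
  obtain ⟨χ, hχ, hov, hd⟩ := key
  refine bad (χ ∘ q) (isIrr_comp q hq hχ) ?_ ?_
  · intro n
    have h1 := hov (f n)
    rw [hl'] at h1
    change χ (q n) = χ (q 1) * _
    rw [map_one]
    exact h1
  · rw [charDegree_comp_one]
    exact hd

/-- **the triple step** -/
theorem triple_step {p : ℕ} [hp : Fact p.Prime] {S T : Type u} [Group S] [Finite S] [IsSimpleGroup S] [Group T] [Finite T]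
    (na : ¬ IsMulCommutative S) (hNB : NBall.{u} p S) (hS : ∃ θ : S → ℂ, IsIrrCharacter S θ ∧ p ∣ charDegree θ)
    (π1 : T →* S) (hπ1 : Function.Surjective π1) (N : Subgroup T) [hN : N.Normal] (hNk : N = π1.ker)
    {χ : N → ℂ} (hχ : IsIrrCharacter N χ) (hinv : inertia N χ = ⊤) (hrelN : RelP p N.subtype χ) : False := by
  classical
  obtain ⟨Δ, Q, _, _, _, π, m, Z, l, hπ, hm, hcomap, hZc, hrel, -⟩ := exists_triple' (p := p) N hχ hinv
  have hmem : ∀ x : Δ, π x ∈ N ↔ m x ∈ Z := fun x => by
    rw [← Subgroup.mem_comap, hcomap, Subgroup.mem_comap]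
  have hrelZ := hrel hrelN
  have hbQ : Bad p Z l := by
    intro χ hχ hovχ hd
    refine hrelZ χ hχ ?_ ?_
    · rw [over_lin_iff Z.subtype (fun z => hZc z.2) hχ]
      exact hovχ
    · rw [charDegree_lf, mul_one]
      exact hd
  -- the map onto `S`
  have hkm : m.ker ≤ (π1.comp π).ker := by
    intro x hx
    rw [MonoidHom.mem_ker]
    show π1 (π x) = 1
    rw [← MonoidHom.mem_ker, ← hNk, hmem, MonoidHom.mem_ker.1 hx]
    exact Z.one_mem
  let g : Q →* S := m.liftOfSurjective hm ⟨π1.comp π, hkm⟩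
  have hg : ∀ x, g (m x) = π1 (π x) := fun x => MonoidHom.liftOfRightInverse_comp_apply _ _ _ _ _
  have hgs : Function.Surjective g := by
    intro y
    obtain ⟨t, rfl⟩ := hπ1 y
    obtain ⟨x, rfl⟩ := hπ t
    exact ⟨m x, hg x⟩
  have hgZ : ∀ y, g y = 1 ↔ y ∈ Z := by
    intro y
    obtain ⟨x, rfl⟩ := hm y
    rw [hg, ← MonoidHom.mem_ker, ← hNk, hmem]
  have perfS : commutator S = ⊤ := by
    rcases (inferInstance : (commutator S).Normal).eq_bot_or_eq_top with h | h
    · exfalso
      apply na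
      refine ⟨⟨fun a b => ?_⟩⟩
      have h1 : ⁅a, b⁆ ∈ commutator S := Subgroup.commutator_mem_commutator trivial trivial
      rw [h, Subgroup.mem_bot, commutatorElement_eq_one_iff_mul_comm] at h1
      exact h1
    · exact h
  -- the group `L = [Q, Q]`
  let L : Subgroup Q := commutator Q
  haveI hLn : L.Normal := inferInstance
  have hgL : ∀ y : S, ∃ a ∈ L, g a = y := by
    intro y
    have h1 : y ∈ (commutator Q).map g := by
      rw [commutator_def, Subgroup.map_commutator, Subgroup.map_top_of_surjective _ hgs, ← commutator_def, perfS]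
      trivial
    obtain ⟨a, ha, h2⟩ := h1
    exact ⟨a, ha, h2⟩
  have hs : L ⊔ Z = ⊤ := by
    rw [eq_top_iff]
    intro y _
    obtain ⟨a, ha, h1⟩ := hgL (g y)
    have h2 : a⁻¹ * y ∈ Z := by
      rw [← hgZ, map_mul, map_inv, h1, inv_mul_cancel]
    have h3 : y = a * (a⁻¹ * y) := by rw [mul_inv_cancel_left]
    rw [h3]
    exact Subgroup.mul_mem_sup ha h2
  have hbL : Bad p (Z.subgroupOf L) (resL L l) := bad_resL hZc hs hbQ
  have hperfL : commutator L = ⊤ := by
    have h1 : L ≤ (commutator L).map L.subtype := by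
      rw [Subgroup.map_subtype_commutator]
      show commutator Q ≤ _
      rw [commutator_def, Subgroup.commutator_le]
      intro a _ b _
      have ha : a ∈ L ⊔ Z := by rw [hs]; trivial
      have hb : b ∈ L ⊔ Z := by rw [hs]; trivial
      obtain ⟨a, ha', z, hz, rfl⟩ := Subgroup.mem_sup_of_normal_left.1 ha
      obtain ⟨b, hb', w, hw, rfl⟩ := Subgroup.mem_sup_of_normal_left.1 hb
      rw [comm_central hZc hz hw]
      exact Subgroup.commutator_mem_commutator ha' hb'
    rw [eq_top_iff]
    intro x _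
    obtain ⟨y, hy, h2⟩ := h1 x.2
    rwa [← Subtype.ext h2]
  refine not_bad_gen hS hNB hperfL (g.comp L.subtype) ?_ (C := Z.subgroupOf L) ?_ ?_ hbL
  · intro y
    obtain ⟨a, ha, h1⟩ := hgL y
    exact ⟨⟨a, ha⟩, h1⟩
  · ext x
    rw [Subgroup.mem_subgroupOf, MonoidHom.mem_ker]
    exact (hgZ _).symm
  · intro z hz
    rw [Subgroup.mem_center_iff]
    intro y
    exact Subtype.ext (Subgroup.mem_center_iff.1 (hZc hz) y)

/-- **`PartT`** -/
theorem partT : Cfsg.Agent.H600.RIM.Exc.PartT.{u} := by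
  intro p S T _ _ _ _ _ hp na hNB hS π hπ N hN hNk χ hχ hinv _ hrel
  haveI : Fact p.Prime := ⟨hp⟩
  refine triple_step na hNB hS π hπ N hNk hχ ?_ hrel
  rw [eq_top_iff]
  intro g _
  rw [mem_inertia_iff]
  intro n
  exact hinv g n _ rfl

end Cfsg.Agent.H159.RIM
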